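import Cfsg.Agent.H832.UThree.Main
import Cfsg.Agent.H832.FourProd
import Cfsg.Agent.R08.FrameA

/-!
# `3.U4(3)` in `SU_6(2)`: existence, from the centralizer of a 2-central involution of `Fi24'` (helper832)
-/

set_option autoImplicit false

namespace Cfsg.Agent.H832.UThree

open Cfsg Cfsg.Agent.SporRec.GF4 Cfsg.Agent.R08.ModVec Cfsg.Agent.R08.ModMono Cfsg.Agent.R08.Frame
open Cfsg.Agent.R08.ModOrb Cfsg.Agent.R08.ModTau Cfsg.Agent.R08.ModFrame Cfsg.Agent.R08.FrameAGroup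
open Cfsg.Agent.Co2Type.Quad Cfsg.Agent.SporadicStructure.FieldNine
open Cfsg.Agent.R08.FrameA (card_psu perf_psu exists_frameData)

theorem ext_of_frame {G : Type*} [Group G] [Finite G] {z : G}
    {Q N M : Subgroup (Subgroup.centralizer ({z} : Set G))} [Q.Normal] [N.Normal] [M.Normal]
    (h : Large (Q.map (Subgroup.centralizer ({z} : Set G)).subtype) z)
    (hQN : Q ≤ N) (hNM : N ≤ M)
    (e : M ⧸ N.subgroupOf M ≃* Cfsg.PSU 4 K9 3) (fd : FrameData h N M F4) :
    ∃ π : ↥(grp fd) →* Cfsg.PSU 4 K9 3, Ext π := by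
  classical
  have hmemQ : ∀ c : Subgroup.centralizer ({z} : Set G),
      (c : G) ∈ Q.map (Subgroup.centralizer ({z} : Set G)).subtype ↔ c ∈ Q := by
    intro c
    constructor
    · rintro ⟨d, hd, hdc⟩
      rwa [← (Subtype.ext hdc : d = c)]
    · intro hc
      exact ⟨c, hc, rfl⟩
  have hker : ∀ c : Subgroup.centralizer ({z} : Set G), h.act c = 1 ↔ c ∈ Q := fun c =>
    ⟨fun hc => (hmemQ c).1 (h.mem_of_act c hc), fun hc => h.act_mem c ((hmemQ c).2 hc)⟩
  have h1 : ∀ m : M, ∃ A : SL, ∀ v, fd.lab (h.act m v) = A • fd.lab v := by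
    intro m
    obtain ⟨A, -, hA⟩ := fd.lin m m.2
    exact ⟨A, hA⟩
  choose f hf using h1
  let φ : M →* grp fd :=
    { toFun := fun m => ⟨f m, m, m.2, hf m⟩
      map_one' := by
        apply Subtype.ext
        refine uniq fd (c := 1) (hf 1) fun v => ?_
        show fd.lab (h.act 1 v) = (1 : SL) • fd.lab v
        rw [map_one, one_smul]; rfl
      map_mul' := by
        intro m n
        apply Subtype.ext
        refine uniq fd (c := (m * n : M)) (hf (m * n)) fun v => ?_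
        show fd.lab (h.act ((m : Subgroup.centralizer ({z} : Set G)) * n) v) = (f m * f n) • fd.lab v
        rw [map_mul, mul_smul, ← hf n, ← hf m]
        rfl }
  have hφ : Function.Surjective φ := by
    rintro ⟨A, m, hm, hA⟩
    exact ⟨⟨m, hm⟩, Subtype.ext (uniq fd (hf ⟨m, hm⟩) hA)⟩
  have hφker : ∀ m : M, φ m = 1 → (m : Subgroup.centralizer ({z} : Set G)) ∈ Q := by
    intro m hm
    rw [← hker]
    ext v
    have h2 : f m = 1 := congrArg Subtype.val hm
    have h3 := hf m v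
    rw [h2, one_smul] at h3
    exact fd.lab.injective h3
  let p : M →* Cfsg.PSU 4 K9 3 := e.toMonoidHom.comp (QuotientGroup.mk' (N.subgroupOf M))
  have hp : Function.Surjective p := e.surjective.comp (QuotientGroup.mk'_surjective _)
  have hpker : ∀ m : M, p m = 1 ↔ (m : Subgroup.centralizer ({z} : Set G)) ∈ N := by
    intro m
    have h1 : p m = 1 ↔ (QuotientGroup.mk' (N.subgroupOf M)) m = 1 := map_eq_one_iff e e.injective
    rw [h1, QuotientGroup.mk'_apply, QuotientGroup.eq_one_iff, Subgroup.mem_subgroupOf]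
  let π : grp fd →* Cfsg.PSU 4 K9 3 := φ.liftOfSurjective hφ ⟨p, fun m hm =>
    (hpker m).2 (hQN (hφker m hm))⟩
  have hπ : ∀ m, π (φ m) = p m := fun m => MonoidHom.liftOfRightInverse_comp_apply _ _ _ _ m
  have hπs : Function.Surjective π := by
    intro s
    obtain ⟨m, rfl⟩ := hp s
    exact ⟨φ m, hπ m⟩
  refine ⟨π, hπs, ?_, perf_psu⟩
  have hQM : ∀ c : Subgroup.centralizer ({z} : Set G),
      (c : G) ∈ Q.map (Subgroup.centralizer ({z} : Set G)).subtype → c ∈ M := fun c hc =>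
    hNM (hQN ((hmemQ c).1 hc))
  have c1 := card_grp fd hQM
  have h2 := π.ker.card_mul_index
  rw [Subgroup.index_ker, MonoidHom.range_eq_top.2 hπs, Subgroup.card_top, card_psu, c1] at h2
  omega

theorem center_psu : Subgroup.center (Cfsg.PSU 4 K9 3) = ⊥ := by
  have hs : IsSimpleGroup (Cfsg.PSU 4 K9 3) := Cfsg.Agent.S0283.result (q := 3)
    K9.card_K9' 4 (by norm_num) (by norm_num)
  rcases hs.eq_bot_or_eq_top_of_normal (Subgroup.center (Cfsg.PSU 4 K9 3)) inferInstance with h0 | h0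
  · exact h0
  · exfalso
    have hcom : ∀ a b : Cfsg.PSU 4 K9 3, a * b = b * a := by
      intro a b
      have : b ∈ Subgroup.center (Cfsg.PSU 4 K9 3) := by rw [h0]; trivial
      exact Subgroup.mem_center_iff.1 this a
    let _ : CommGroup (Cfsg.PSU 4 K9 3) :=
      { (inferInstance : Group (Cfsg.PSU 4 K9 3)) with mul_comm := hcom }
    have hfin : Finite (Cfsg.PSU 4 K9 3) := Nat.finite_of_card_ne_zero (by rw [card_psu]; norm_num)
    have hp := IsSimpleGroup.prime_card (α := Cfsg.PSU 4 K9 3)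
    rw [card_psu] at hp
    norm_num at hp

open Cfsg.Agent.CTwoTab.FiTF Cfsg.Agent.OrdDiv Cfsg.Agent.CpAut Cfsg.Agent.H832.FourProd

theorem exists_H0 (T : OrderTable.{0}) (hA : AllKnown.{0}) :
    ∃ (H0 : Subgroup SL) (π : ↥H0 →* Cfsg.PSU 4 K9 3), Std H0 ∧ Ext π := by
  have hfin : Finite Spor.Fi24 := Cfsg.Agent.R08.FiTwentyFour.finite_Fi24
  have hfin' : Finite Spor.Fi24' := inferInstance
  obtain ⟨Q, hQ, h1, h2, h3, N, M, hN, hM, h4, h5, h6, ⟨K, i1, i2, hK, ⟨f⟩⟩, h7⟩ := concl_z0 T hA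
  have hz : orderOf z0 = 2 := orderOf_eq_prime (by rw [pow_two]; exact large0.z_sq) large0.z_ne
  obtain ⟨h, ⟨fd⟩⟩ := exists_frameData z0 hz Q N M h1 h2 h3 h4 h5 h6 K hK f F4 rfl
  have hQM : ∀ c : Subgroup.centralizer ({z0} : Set Spor.Fi24'),
      (c : Spor.Fi24') ∈ Q.map (Subgroup.centralizer ({z0} : Set Spor.Fi24')).subtype → c ∈ M := by
    rintro c ⟨d, hd, hdc⟩
    have : d = c := Subtype.ext hdc
    rw [← this]
    exact h5 (h4 hd)
  obtain ⟨fd', hstd⟩ := Cfsg.Agent.R08.ModFrame.exists_std fd hQM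
  obtain ⟨ε⟩ := Cfsg.Agent.SporadicStructure.PsuMatch.psu_iso_of_card (F := K) (K := K9)
    (by rw [hK, K9.card_K9']; norm_num) 4 3
  obtain ⟨π, E⟩ := ext_of_frame h h4 h5 (f.trans ε) fd'
  exact ⟨grp fd', π, hstd, E⟩

/-- **The statement.** -/
theorem three (T : OrderTable.{0}) (hA : AllKnown.{0}) (F : Type) [Field F] [Fintype F]
    (hF : Fintype.card F = 4) (F9 : Type) [Field F9] [Fintype F9] (hF9 : Fintype.card F9 = 9) :
    Three (Cfsg.PSU 4 F9 3) ↥(Cfsg.SU 6 F 2) := by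
  obtain ⟨H0, π, h0, E⟩ := exists_H0 T hA
  have h1 : Three (Cfsg.PSU 4 K9 3) SUx :=
    main_SU Cfsg.Agent.R08.FrameAData.uData card_psu perf_psu center_psu h0 E
  obtain ⟨ε⟩ := Cfsg.Agent.SporadicStructure.PsuMatch.psu_iso_of_card (F := K9) (K := F9)
    (by rw [hF9, K9.card_K9']; norm_num) 4 3
  have e : F4 ≃+* F := FiniteField.ringEquivOfCardEq (by rw [hF]; rfl)
  exact (h1.congr_S ε).of_equiv (Cfsg.Agent.SporadicStructure.PsuMatch.suCongr e 6 2)

end Cfsg.Agent.H832.UThree
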