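import Cfsg.Agent.R08.FrameAForm
import Cfsg.Agent.R08.ModLab

/-!
# Subgroups `3.U4(3)` of `SU_6(2)`: coordinates (helper832)

`SL = SL_6(4)`, `SU = SU_6(2) ≤ SL`, `GL = GL_6(4)` acts on `SL` by conjugation (`cg`), `Uni G`: `G` is unitary.

* `exists_linFrame` : `K ≤ SU` with `π : K → PSU_4(3)` onto, kernel of order 3: `K` is conjugate by a unitary matrix
  to a subgroup with `LinFrame`.
-/

set_option autoImplicit false

namespace Cfsg.Agent.H832.UThree

open Cfsg Cfsg.Agent.SporRec.GF4 Cfsg.Agent.R08.ModVec Cfsg.Agent.R08.ModMono Cfsg.Agent.R08.Frame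
open Cfsg.Agent.R08.ModOrb Cfsg.Agent.R08.ModIso Cfsg.Agent.R08.ModTau Cfsg.Agent.R08.ModSig
open Cfsg.Agent.R08.ModTriv Cfsg.Agent.R08.FrameAGroup Cfsg.Agent.R08.FrameAData
open Cfsg.Agent.R08.FrameALin Cfsg.Agent.R08.FrameAForm
open Finset

/-- matrices -/
abbrev Mx : Type := Matrix (Fin 6) (Fin 6) F4

/-- invertible matrices -/
abbrev GLx : Type := Mxˣ

theorem det_mul_inv (G : GLx) (A : SL) : ((G : Mx) * A.1 * (G⁻¹ : GLx)).det = 1 := by
  rw [Matrix.det_mul, Matrix.det_mul, A.2, mul_one, ← Matrix.det_mul, Units.mul_inv, Matrix.det_one]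

/-- conjugation by an invertible matrix -/
def cg (G : GLx) : SL ≃* SL where
  toFun A := ⟨(G : Mx) * A.1 * (G⁻¹ : GLx), det_mul_inv G A⟩
  invFun A := ⟨((G⁻¹ : GLx) : Mx) * A.1 * ((G⁻¹ : GLx)⁻¹ : GLx), det_mul_inv G⁻¹ A⟩
  left_inv A := by
    apply Subtype.ext
    show ((G⁻¹ : GLx) : Mx) * ((G : Mx) * A.1 * (G⁻¹ : GLx)) * ((G⁻¹ : GLx)⁻¹ : GLx) = A.1
    rw [inv_inv, mul_assoc, mul_assoc, Units.inv_mul, mul_one, ← mul_assoc, Units.inv_mul, one_mul]
  right_inv A := by
    apply Subtype.ext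
    show (G : Mx) * (((G⁻¹ : GLx) : Mx) * A.1 * ((G⁻¹ : GLx)⁻¹ : GLx)) * (G⁻¹ : GLx) = A.1
    rw [inv_inv, mul_assoc, mul_assoc, Units.mul_inv, mul_one, ← mul_assoc, Units.mul_inv, one_mul]
  map_mul' A B := by
    apply Subtype.ext
    show (G : Mx) * (A.1 * B.1) * (G⁻¹ : GLx) = (G : Mx) * A.1 * (G⁻¹ : GLx) * ((G : Mx) * B.1 * (G⁻¹ : GLx))
    have h : ((G⁻¹ : GLx) : Mx) * ((G : Mx) * B.1 * (G⁻¹ : GLx)) = B.1 * (G⁻¹ : GLx) := by
      rw [mul_assoc, ← mul_assoc, Units.inv_mul, one_mul]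
    rw [mul_assoc ((G : Mx) * A.1), h]
    simp only [mul_assoc]

theorem cg_coe (G : GLx) (A : SL) : (cg G A).1 = (G : Mx) * A.1 * (G⁻¹ : GLx) := rfl

theorem cg_one (A : SL) : cg 1 A = A := by
  apply Subtype.ext
  rw [cg_coe, inv_one, Units.val_one, one_mul, mul_one]

theorem cg_mul (G G' : GLx) (A : SL) : cg (G * G') A = cg G (cg G' A) := by
  apply Subtype.ext
  rw [cg_coe, cg_coe, cg_coe, mul_inv_rev, Units.val_mul, Units.val_mul]
  simp only [mul_assoc]

/-- the action on vectors -/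
def ac (G : GLx) (v : W) : W := (G : Mx).mulVec v

theorem ac_add (G : GLx) (u v : W) : ac G (u + v) = ac G u + ac G v := Matrix.mulVec_add _ _ _

theorem ac_smul (G : GLx) (a : F4) (v : W) : ac G (a • v) = a • ac G v := Matrix.mulVec_smul _ _ _

theorem ac_mul (G G' : GLx) (v : W) : ac (G * G') v = ac G (ac G' v) := by
  unfold ac
  rw [Units.val_mul, Matrix.mulVec_mulVec]

theorem ac_one (v : W) : ac 1 v = v := by
  unfold ac
  rw [Units.val_one, Matrix.one_mulVec]

theorem ac_inv (G : GLx) (v : W) : ac G⁻¹ (ac G v) = v := by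
  rw [← ac_mul, inv_mul_cancel, ac_one]

theorem ac_inv' (G : GLx) (v : W) : ac G (ac G⁻¹ v) = v := by
  rw [← ac_mul, mul_inv_cancel, ac_one]

theorem ac_inj (G : GLx) {u v : W} (h : ac G u = ac G v) : u = v := by
  rw [← ac_inv G u, h, ac_inv]

theorem cg_smul (G : GLx) (A : SL) (v : W) : cg G A • ac G v = ac G (A • v) := by
  rw [smul_def, smul_def]
  show ((G : Mx) * A.1 * (G⁻¹ : GLx)).mulVec ((G : Mx).mulVec v) = (G : Mx).mulVec _
  rw [Matrix.mulVec_mulVec, Matrix.mulVec_mulVec, mul_assoc, mul_assoc, Units.inv_mul, mul_one]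

/-- unitary matrices -/
def Uni (G : GLx) : Prop := ∀ u v, herm (ac G u) (ac G v) = herm u v

theorem Uni.mul {G G' : GLx} (h : Uni G) (h' : Uni G') : Uni (G * G') := fun u v => by
  rw [ac_mul, ac_mul, h, h']

theorem Uni.inv {G : GLx} (h : Uni G) : Uni G⁻¹ := fun u v => by
  rw [← h, ac_inv', ac_inv']

theorem cg_mem_SU {G : GLx} (h : Uni G) {A : SL} (hA : A ∈ Cfsg.SU 6 F4 2) :
    cg G A ∈ Cfsg.SU 6 F4 2 := by
  have key : ∀ u v : W, herm (cg G A • u) (cg G A • v) = herm u v := by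
    intro u v
    rw [← ac_inv' G u, ← ac_inv' G v, cg_smul, cg_smul, h, h]
    exact hA _ _
  exact key

/-! ### `LinFrame` and conjugation by diagonal matrices -/

/-- diagonal matrices -/
def Dg (D : Fin 6 → F4ˣ) : GLx where
  val := Matrix.diagonal fun i => (D i : F4)
  inv := Matrix.diagonal fun i => ((D i)⁻¹ : F4ˣ).val
  val_inv := by
    rw [Matrix.diagonal_mul_diagonal]
    have : (fun i => (D i : F4) * ((D i)⁻¹ : F4ˣ).val) = fun _ => 1 :=
      funext fun i => Units.mul_inv _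
    rw [this, Matrix.diagonal_one]
  inv_val := by
    rw [Matrix.diagonal_mul_diagonal]
    have : (fun i => ((D i)⁻¹ : F4ˣ).val * (D i : F4)) = fun _ => 1 :=
      funext fun i => Units.inv_mul _
    rw [this, Matrix.diagonal_one]

theorem ac_Dg (D : Fin 6 → F4ˣ) (v : W) (i : Fin 6) : ac (Dg D) v i = (D i : F4) * v i :=
  Matrix.mulVec_diagonal _ _ _

theorem uni_Dg (D : Fin 6 → F4ˣ) : Uni (Dg D) := by
  intro u v
  rw [herm_def, herm_def]
  refine Finset.sum_congr rfl fun i _ => ?_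
  rw [ac_Dg, ac_Dg, cj_mul]
  have := mul_cj (D i).ne_zero
  calc (D i : F4) * u i * (cj (D i) * cj (v i)) = ((D i : F4) * cj (D i)) * (u i * cj (v i)) := by ring
    _ = _ := by rw [this, one_mul]

theorem Dg_inv (D : Fin 6 → F4ˣ) : (Dg D)⁻¹ = Dg D⁻¹ := by
  apply inv_eq_of_mul_eq_one_right
  apply Units.ext
  show Matrix.diagonal _ * Matrix.diagonal _ = 1
  rw [Matrix.diagonal_mul_diagonal]
  have : (fun i => (D i : F4) * ((D⁻¹ i : F4ˣ) : F4)) = fun _ => 1 :=
    funext fun i => Units.mul_inv _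
  rw [this, Matrix.diagonal_one]

/-- the map of a subgroup -/
def cmap (G : GLx) (H : Subgroup SL) : Subgroup SL := H.map (cg G).toMonoidHom

theorem mem_cmap {G : GLx} {H : Subgroup SL} {A : SL} : A ∈ cmap G H ↔ ∃ B ∈ H, cg G B = A := Iff.rfl

theorem cmap_mul (G G' : GLx) (H : Subgroup SL) : cmap (G * G') H = cmap G (cmap G' H) := by
  ext A
  constructor
  · rintro ⟨B, hB, rfl⟩
    exact ⟨cg G' B, ⟨B, hB, rfl⟩, (cg_mul G G' B).symm⟩
  · rintro ⟨_, ⟨B, hB, rfl⟩, rfl⟩
    exact ⟨B, hB, cg_mul G G' B⟩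

theorem cmap_one (H : Subgroup SL) : cmap 1 H = H := by
  ext A
  constructor
  · rintro ⟨B, hB, rfl⟩
    show cg 1 B ∈ H
    rwa [cg_one]
  · intro hA
    exact ⟨A, hA, cg_one A⟩

theorem card_cmap (G : GLx) (H : Subgroup SL) : Nat.card ↥(cmap G H) = Nat.card ↥H :=
  (Nat.card_congr (H.equivMapOfInjective (cg G).toMonoidHom (cg G).injective).toEquiv).symm

theorem cmap_le {G : GLx} (h : Uni G) {H : Subgroup SL} (hH : H ≤ Cfsg.SU 6 F4 2) :
    cmap G H ≤ Cfsg.SU 6 F4 2 := by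
  rintro _ ⟨B, hB, rfl⟩
  exact cg_mem_SU h (hH hB)

theorem linFrame_Dg (D : Fin 6 → F4ˣ) {H : Subgroup SL} (hH : LinFrame F4 H) :
    LinFrame F4 (cmap (Dg D) H) where
  le := cmap_le (uni_Dg D) hH.le
  mono s d hs hd := by
    obtain ⟨A, hA, hAv⟩ := hH.mono s (fun i => (D i)⁻¹ * d i * D (s⁻¹ i)) hs (by
      rw [prod_mul_distrib, prod_mul_distrib, hd, mul_one, prod_inv_distrib]
      rw [show ∏ i, D (s⁻¹ i) = ∏ i, D i from Equiv.prod_comp (s⁻¹ : Equiv.Perm (Fin 6)) D,
        inv_mul_cancel])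
    refine ⟨cg (Dg D) A, ⟨A, hA, rfl⟩, fun v i => ?_⟩
    obtain ⟨w, rfl⟩ : ∃ w, ac (Dg D) w = v := ⟨ac (Dg D)⁻¹ v, ac_inv' _ _⟩
    show (cg (Dg D) A • ac (Dg D) w) i = _
    rw [cg_smul, ac_Dg, ac_Dg]
    have h1 : (A • w) i = ((D i)⁻¹ * d i * D (s⁻¹ i) : F4ˣ) * w (s⁻¹ i) := hAv w i
    rw [h1, Units.val_mul, Units.val_mul]
    have h2 : (D i : F4) * ((D i)⁻¹ : F4ˣ) = 1 := Units.mul_inv _
    calc (D i : F4) * (((D i)⁻¹ : F4ˣ) * (d i : F4) * (D (s⁻¹ i) : F4) * w (s⁻¹ i)) =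
        ((D i : F4) * ((D i)⁻¹ : F4ˣ)) * (d i : F4) * ((D (s⁻¹ i) : F4) * w (s⁻¹ i)) := by ring
      _ = _ := by rw [h2, one_mul]
  card := by rw [card_cmap, hH.card]

theorem orb_cmap (G : GLx) {H : Subgroup SL} {u v : W} (huv : Orb H u v) :
    Orb (cmap G H) (ac G u) (ac G v) := by
  obtain ⟨A, hA, rfl⟩ := huv
  exact ⟨cg G A, ⟨A, hA, rfl⟩, cg_smul G A u⟩

/-- **Normalisation of the orbits.** -/
theorem exists_std {H : Subgroup SL} (hH : LinFrame F4 H) : ∃ D : Fin 6 → F4ˣ, Std (cmap (Dg D) H) := by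
  obtain ⟨c, hc, h2, h4⟩ := iso_orbits hH
  let D : Fin 6 → F4ˣ := ![(Units.mk0 c hc)⁻¹, 1, 1, 1, 1, 1]
  obtain ⟨c', hc', h2', h4'⟩ := iso_orbits (linFrame_Dg D hH)
  have e1 : Orb H u2 (u6 c) := (h2 _).2 (Or.inr ⟨wt_u6 hc, prod_u6 c⟩)
  have e2 := orb_cmap (Dg D) e1
  have e3 : wt (ac (Dg D) u2) = 2 := by
    have : supp (ac (Dg D) u2) = supp u2 := by
      ext i
      rw [mem_supp, mem_supp, ac_Dg]
      constructor
      · intro h1 h2
        exact h1 (by rw [h2, mul_zero])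
      · intro h1
        exact mul_ne_zero (D i).ne_zero h1
    rw [← card_supp, this]
    exact wt_u2
  have e4 : ac (Dg D) (u6 c) = fun _ => 1 := by
    funext i
    rw [ac_Dg]
    have hcc : (((Units.mk0 c hc)⁻¹ : F4ˣ) : F4) * c = 1 := by
      rw [Units.val_inv_eq_inv_val]
      exact inv_mul_cancel₀ hc
    fin_cases i
    · exact hcc
    · exact one_mul _
    · exact one_mul _
    · exact one_mul _
    · exact one_mul _
    · exact one_mul _
  rw [e4] at e2
  have e5 : Orb (cmap (Dg D) H) u2 (fun _ => 1) :=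
    (Orb.of_type (linFrame_Dg D hH) (wt_u2.trans e3.symm)
      (fun h => by rw [wt_u2] at h; omega)).trans e2
  have e6 : c' = 1 := by
    rcases (h2' _).1 e5 with h5 | ⟨-, h5⟩
    · exact absurd h5 (by decide)
    · rw [← h5]; decide
  refine ⟨D, linFrame_Dg D hH, fun v => ?_, fun v => ?_⟩
  · rw [h2', e6]; rfl
  · rw [h4', e6]; rfl

/-! ### Uniqueness of the standard group -/

/-- no subgroup of index two -/
def NoTwo (H : Subgroup SL) : Prop := ∀ N : Subgroup ↥H, N.index ≠ 2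

theorem std_unique {H H' : Subgroup SL} (h : Std H) (h' : Std H') (hn : NoTwo H') : H' = H := by
  have key : ∀ A ∈ H', A ∈ H ∨ ∃ B ∈ H, ∀ v, A • v = B • tau u45 v := by
    intro A hA
    rcases (sig_of_mem h' hA).cases h with ⟨B, hB, hv⟩ | h1
    · left
      rwa [sl_ext hv]
    · exact Or.inr h1
  have hle : H' ≤ H := by
    by_contra hcon
    obtain ⟨A0, hA0, hA0'⟩ := Set.not_subset.1 hcon
    obtain ⟨B0, hB0, hv0⟩ := (key A0 hA0).resolve_left hA0'
    refine hn (H.subgroupOf H') ?_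
    rw [Subgroup.index_eq_two_iff]
    refine ⟨⟨A0⁻¹, inv_mem hA0⟩, fun b => ?_⟩
    by_cases hb : (b : SL) ∈ H
    · right
      refine ⟨Subgroup.mem_subgroupOf.2 hb, fun h1 => hA0' ?_⟩
      have h2 : (b : SL) * A0⁻¹ ∈ H := Subgroup.mem_subgroupOf.1 h1
      have h3 := mul_mem (inv_mem hb) h2
      rw [inv_mul_cancel_left] at h3
      exact (inv_mem_iff).1 h3
    · left
      obtain ⟨B, hB, hv⟩ := (key b b.2).resolve_left hb
      refine ⟨Subgroup.mem_subgroupOf.2 ?_, hb⟩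
      show (b : SL) * A0⁻¹ ∈ H
      have h1 : (b : SL) * A0⁻¹ = B * B0⁻¹ := by
        apply sl_ext
        intro v
        rw [mul_smul, mul_smul]
        have h2 : v = A0 • tau u45 (B0⁻¹ • v) := by
          rw [hv0, tau_tau (herm_of_isR isR_u45), smul_inv_smul]
        have h3 : A0⁻¹ • v = tau u45 (B0⁻¹ • v) := by
          conv_lhs => rw [h2]
          rw [inv_smul_smul]
        rw [h3, hv, tau_tau (herm_of_isR isR_u45)]
      rw [h1]
      exact mul_mem hB (inv_mem hB0)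
  have hfin : Finite SL := inferInstance
  exact Subgroup.eq_of_le_of_card_ge hle (by rw [h.fr.card, h'.fr.card])

/-! ### The stabiliser of the standard group -/

theorem det_of_normalize {H : Subgroup SL} (h : Std H) {G : GLx} (hG : Uni G) (hn : cmap G H = H) :
    (G : Mx).det = 1 := by
  classical
  have hiso : herm (ac G u2) (ac G u2) = 0 := by rw [hG, iso_u2]
  have hne : ac G u2 ≠ 0 := by
    intro h0
    apply u2_ne
    apply ac_inj G
    rw [h0]
    exact (Matrix.mulVec_zero _).symm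
  have horb : ∀ v, IsR v ↔ Orb H (ac G u2) (ac G v) := by
    intro v
    rw [← h.orbR]
    constructor
    · intro h1
      have := orb_cmap G h1
      rwa [hn] at this
    · intro h1
      have := orb_cmap G⁻¹ h1
      rw [ac_inv, ac_inv] at this
      have h2 : cmap G⁻¹ H = H := by
        conv_lhs => rw [← hn]
        rw [← cmap_mul, inv_mul_cancel, cmap_one]
      rwa [h2] at this
  have hR : IsR (ac G u2) := by
    rcases isR_or_isS hiso hne with h1 | h1
    · exact h1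
    · exfalso
      have h2 : ∀ v, IsR v ↔ IsS (ac G v) := by
        intro v
        rw [horb, ← h.orbS]
        constructor
        · intro h3
          exact ((h.orbS _).2 h1).trans h3
        · intro h3
          exact ((h.orbS _).2 h1).symm.trans h3
      have c1 := Cfsg.Agent.R08.ModLab.card_isR (fun v => IsR v) (fun v => Iff.rfl)
      have c2 := Cfsg.Agent.R08.ModLab.card_isS (fun v => IsS v) (fun v => Iff.rfl)
      have c3 : (Finset.univ.filter fun v => IsS v).card = (Finset.univ.filter fun v => IsR v).card := by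
        symm
        apply Finset.card_bij (fun v _ => ac G v)
        · intro v hv
          rw [Finset.mem_filter] at hv ⊢
          exact ⟨Finset.mem_univ _, (h2 v).1 hv.2⟩
        · intro u _ v _ huv
          exact ac_inj G huv
        · intro w hw
          rw [Finset.mem_filter] at hw
          refine ⟨ac G⁻¹ w, ?_, ac_inv' _ _⟩
          rw [Finset.mem_filter]
          refine ⟨Finset.mem_univ _, (h2 _).2 ?_⟩
          rw [ac_inv']
          exact hw.2
      rw [c1, c2] at c3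
      omega
  have hS : Sig (ac G) :=
    { add := ac_add G
      smul := ac_smul G
      isom := hG
      isR := fun v hv => (h.orbR _).1 (((h.orbR _).2 hR).trans ((horb v).1 hv)) }
  have hext : ∀ M N : Mx, (∀ v : W, M.mulVec v = N.mulVec v) → M = N := by
    intro M N hMN
    apply Matrix.ext
    intro i j
    have h3 := congrFun (hMN (Pi.single j 1)) i
    rwa [Matrix.mulVec_single_one, Matrix.mulVec_single_one] at h3
  rcases hS.cases h with ⟨A, hA, hv⟩ | ⟨A, hA, hv⟩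
  · have h1 : (G : Mx) = A.1 := hext _ _ fun v => hv v
    rw [h1, A.2]
  · let P : Mx := (Equiv.swap (4 : Fin 6) 5).toPEquiv.toMatrix
    have hP : ∀ v : W, P.mulVec v = tau u45 v := by
      intro v
      funext i
      rw [tau_u45]
      show (((Equiv.swap (4 : Fin 6) 5).toPEquiv.toMatrix : Mx).mulVec v) i = _
      rw [PEquiv.toMatrix_toPEquiv_mulVec]
      rfl
    have h1 : (G : Mx) = A.1 * P := hext _ _ fun v => by
      rw [← Matrix.mulVec_mulVec, hP]
      exact hv v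
    have h2 : P * P = 1 := hext _ _ fun v => by
      rw [← Matrix.mulVec_mulVec, hP, hP, tau_tau (herm_of_isR isR_u45), Matrix.one_mulVec]
    have h3 : P.det * P.det = 1 := by rw [← Matrix.det_mul, h2, Matrix.det_one]
    rw [h1, Matrix.det_mul, A.2, one_mul]
    revert h3
    generalize P.det = x
    cases x <;> decide

end Cfsg.Agent.H832.UThree
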