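import Cfsg.Agent.H832.UThree.Coord

/-!
# Subgroups `3.U4(3)` of `SU_6(2)`: existence of coordinates (helper832)
-/

set_option autoImplicit false

namespace Cfsg.Agent.H832.UThree

open Cfsg Cfsg.Agent.SporRec.GF4 Cfsg.Agent.R08.ModVec Cfsg.Agent.R08.ModMono Cfsg.Agent.R08.Frame
open Cfsg.Agent.R08.ModOrb Cfsg.Agent.R08.ModIso Cfsg.Agent.R08.ModTau Cfsg.Agent.R08.ModSig
open Cfsg.Agent.R08.ModTriv Cfsg.Agent.R08.FrameAGroup Cfsg.Agent.R08.FrameAData
open Cfsg.Agent.R08.FrameALin Cfsg.Agent.R08.FrameAForm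
open Finset

/-! ### forms over `F_2` -/

/-- an additive map `F4 → F2` with `1 ↦ 1` -/
def sF : F4 → ZMod 2
  | .z => 0
  | .o => 1
  | .w => 1
  | .v => 0

theorem sF_add (a b : F4) : sF (a + b) = sF a + sF b := by cases a <;> cases b <;> decide

theorem sF_self {a : F4} (ha : cj a = a) : sF a = 0 ↔ a = 0 := by
  revert ha; cases a <;> decide

theorem cj_herm (v : W) : cj (herm v v) = herm v v := (herm_symm v v).symm

/-- the quadratic form -/
def qF (v : W) : ZMod 2 := sF (herm v v)

/-- the bilinear form -/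
def bF (u v : W) : ZMod 2 := sF (herm u v + cj (herm u v))

theorem qF_eq_zero (v : W) : qF v = 0 ↔ herm v v = 0 := sF_self (cj_herm v)

theorem bF_add_left (u v w : W) : bF (u + v) w = bF u w + bF v w := by
  unfold bF
  rw [herm_add_left, cj_add, ← sF_add]
  congr 1
  ring

theorem bF_add_right (u v w : W) : bF u (v + w) = bF u v + bF u w := by
  unfold bF
  rw [herm_add_right, cj_add, ← sF_add]
  congr 1
  ring

theorem qF_add (v w : W) : qF (v + w) = qF v + qF w + bF v w := by
  unfold qF bF
  rw [herm_add_left, herm_add_right, herm_add_right, herm_symm v w, ← sF_add, ← sF_add]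
  congr 1
  ring

theorem bF_nondeg (v : W) (h : ∀ w, bF v w = 0) : v = 0 := by
  apply herm_nondeg
  intro w
  have key : ∀ a : F4, (∀ c : F4, sF (cj c * a + cj (cj c * a)) = 0) → a = 0 := by
    intro a
    revert a
    decide
  apply key
  intro c
  have := h (c • w)
  unfold bF at this
  rwa [herm_smul_right] at this

/-! ### additive maps commuting with the even monomial matrices -/

/-- monomial map -/
def mon (s : Equiv.Perm (Fin 6)) (d : Fin 6 → F4ˣ) (x : W) : W := fun i => (d i : F4) * x (s⁻¹ i)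

/-- the units -/
def uw : F4ˣ := ⟨F4.w, F4.v, rfl, rfl⟩

theorem uw_pow : uw ^ 6 = 1 := by
  apply Units.ext
  rfl

theorem eq_cases (a : F4) : a = 0 ∨ a = 1 ∨ a = F4.w ∨ a = F4.w * F4.w := by
  cases a
  · exact Or.inl rfl
  · exact Or.inr (Or.inl rfl)
  · exact Or.inr (Or.inr (Or.inl rfl))
  · exact Or.inr (Or.inr (Or.inr rfl))

/-- an additive map commuting with multiplication by `w` is linear -/
theorem smul_of_w {J : W → W} (hz : J 0 = 0) (h : ∀ x, J (F4.w • x) = F4.w • J x) (a : F4) (x : W) :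
    J (a • x) = a • J x := by
  rcases eq_cases a with rfl | rfl | rfl | rfl
  · rw [zero_smul, zero_smul, hz]
  · rw [one_smul, one_smul]
  · exact h x
  · rw [mul_smul, h, h, ← mul_smul]

theorem scalar_of_commute {J : W → W} (hadd : ∀ x y, J (x + y) = J x + J y)
    (hm : ∀ s d, Equiv.Perm.sign s = 1 → ∏ i, d i = 1 → ∀ x, J (mon s d x) = mon s d (J x)) :
    ∃ γ : F4, ∀ x, J x = γ • x := by
  have hz : J 0 = 0 := by
    have := hadd 0 0
    rw [add_zero] at this
    exact left_eq_add.1 this
  -- linear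
  have hw : ∀ x, J (F4.w • x) = F4.w • J x := by
    intro x
    have h1 := hm 1 (fun _ => uw) (by simp) (by simp [uw_pow]) x
    exact h1
  have hlin := smul_of_w hz hw
  -- diagonal
  have hdiag : ∀ i j : Fin 6, j ≠ i → J (e i) j = 0 := by
    intro i j hji
    obtain ⟨k, hki, hkj⟩ : ∃ k : Fin 6, k ≠ i ∧ k ≠ j := by
      revert i j; decide
    let d : Fin 6 → F4ˣ := fun l => if l = j then uw else if l = k then uw⁻¹ else 1
    have hd : ∏ l, d l = 1 := by
      have h1 : ∀ i j k : Fin 6, k ≠ j → (∏ l, (if l = j then uw else if l = k then uw⁻¹ else 1)) = (1 : F4ˣ) := by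
        intro i j k hkj
        rw [← Finset.mul_prod_erase _ _ (Finset.mem_univ j), if_pos rfl,
          ← Finset.mul_prod_erase _ _ (Finset.mem_erase.2 ⟨hkj, Finset.mem_univ k⟩), if_neg hkj, if_pos rfl,
          ← mul_assoc, mul_inv_cancel, one_mul]
        apply Finset.prod_eq_one
        intro l hl
        rw [Finset.mem_erase, Finset.mem_erase] at hl
        rw [if_neg hl.2.1, if_neg hl.1]
      exact h1 i j k hkj
    have h1 := hm 1 d (by simp) hd (e i)
    have h2 : mon 1 d (e i) = e i := by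
      funext l
      show (d l : F4) * e i l = e i l
      by_cases hl : l = i
      · subst hl
        have : d l = 1 := by
          show (if l = j then uw else if l = k then uw⁻¹ else 1) = 1
          rw [if_neg (Ne.symm hji), if_neg (Ne.symm hki)]
        rw [this, Units.val_one, one_mul]
      · rw [e_apply, if_neg hl, mul_zero]
    rw [h2] at h1
    have h3 := congrFun h1 j
    have h4 : mon 1 d (J (e i)) j = F4.w * J (e i) j := by
      show (d j : F4) * J (e i) j = _
      have : d j = uw := if_pos rfl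
      rw [this]
      rfl
    rw [h4] at h3
    revert h3
    generalize J (e i) j = x
    cases x <;> decide
  have heq : ∀ i j : Fin 6, i ≠ j → J (e i) i = J (e j) j := by
    intro i j hij
    obtain ⟨k, l, hki, hkj, hli, hlj, hkl⟩ : ∃ k l : Fin 6, k ≠ i ∧ k ≠ j ∧ l ≠ i ∧ l ≠ j ∧ k ≠ l := by
      revert i j; decide
    let s : Equiv.Perm (Fin 6) := Equiv.swap i j * Equiv.swap k l
    have hs : Equiv.Perm.sign s = 1 := by
      rw [Equiv.Perm.sign_mul, Equiv.Perm.sign_swap hij, Equiv.Perm.sign_swap hkl]; rfl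
    have hsi : s⁻¹ j = i := by
      rw [Equiv.Perm.inv_eq_iff_eq]
      show j = Equiv.swap i j (Equiv.swap k l i)
      rw [Equiv.swap_apply_of_ne_of_ne (Ne.symm hki) (Ne.symm hli), Equiv.swap_apply_left]
    have h1 := hm s (fun _ => 1) hs (by simp) (e i)
    have h2 : mon s (fun _ => 1) (e i) = e j := by
      funext m
      show ((1 : F4ˣ) : F4) * e i (s⁻¹ m) = e j m
      rw [Units.val_one, one_mul, e_apply, e_apply]
      have h3 : s⁻¹ m = i ↔ m = j := by
        rw [← hsi]
        exact (s⁻¹).injective.eq_iff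
      by_cases hm' : m = j
      · rw [if_pos hm', if_pos (h3.2 hm')]
      · rw [if_neg hm', if_neg (fun h => hm' (h3.1 h))]
    rw [h2] at h1
    have h3 := congrFun h1 j
    have h4 : mon s (fun _ => 1) (J (e i)) j = J (e i) i := by
      show ((1 : F4ˣ) : F4) * J (e i) (s⁻¹ j) = _
      rw [Units.val_one, one_mul, hsi]
    rw [h4] at h3
    exact h3.symm
  refine ⟨J (e 0) 0, fun x => ?_⟩
  have hJe : ∀ i, J (e i) = J (e 0) 0 • e i := by
    intro i
    funext j
    rw [Pi.smul_apply, e_apply, smul_eq_mul]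
    by_cases hj : j = i
    · subst hj
      rw [if_pos rfl, mul_one]
      by_cases h0 : j = 0
      · rw [h0]
      · exact heq j 0 h0
    · rw [if_neg hj, mul_zero, hdiag i j hj]
  have hsum : ∀ (t : Finset (Fin 6)) (f : Fin 6 → W), J (∑ i ∈ t, f i) = ∑ i ∈ t, J (f i) := by
    intro t f
    classical
    induction t using Finset.induction_on with
    | empty => simp [hz]
    | insert a t ha ih => rw [Finset.sum_insert ha, Finset.sum_insert ha, hadd, ih]
  conv_lhs => rw [eq_sum x]
  conv_rhs => rw [eq_sum x, Finset.smul_sum]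
  rw [hsum]
  refine Finset.sum_congr rfl fun i _ => ?_
  rw [hlin, hJe, smul_smul, smul_smul, mul_comm]

/-! ### unitary maps from the quadratic form -/

theorem herm_of_qF {g : W → W} (hadd : ∀ x y, g (x + y) = g x + g y)
    (hs : ∀ (a : F4) x, g (a • x) = a • g x) (hq : ∀ x, herm (g x) (g x) = 0 ↔ herm x x = 0) (u v : W) :
    herm (g u) (g v) = herm u v := by
  have h1 : ∀ x, herm (g x) (g x) = herm x x := by
    intro x
    have h2 := cj_herm x
    have h3 := cj_herm (g x)
    have h4 := hq x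
    revert h2 h3 h4
    generalize herm x x = a
    generalize herm (g x) (g x) = b
    cases a <;> cases b <;> decide
  have h2 : ∀ x y, herm (g x) (g y) + cj (herm (g x) (g y)) = herm x y + cj (herm x y) := by
    intro x y
    have h3 := h1 (x + y)
    rw [hadd, herm_add_left, herm_add_right, herm_add_right, herm_add_left, herm_add_right,
      herm_add_right, h1, h1, herm_symm (g x) (g y), herm_symm x y] at h3
    have h4 : herm x x + herm (g x) (g y) + (cj (herm (g x) (g y)) + herm y y) =
        (herm x x + herm y y) + (herm (g x) (g y) + cj (herm (g x) (g y))) := by ring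
    have h5 : herm x x + herm x y + (cj (herm x y) + herm y y) =
        (herm x x + herm y y) + (herm x y + cj (herm x y)) := by ring
    rw [h4, h5] at h3
    exact add_left_cancel h3
  have h3 : ∀ c : F4, c * herm (g u) (g v) + cj (c * herm (g u) (g v)) = c * herm u v + cj (c * herm u v) := by
    intro c
    have := h2 (c • u) v
    rwa [hs, herm_smul_left, herm_smul_left] at this
  have key : ∀ a b : F4, (∀ c : F4, c * a + cj (c * a) = c * b + cj (c * b)) → a = b := by
    decide
  exact key _ _ h3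

/-- a semilinear correction -/
theorem exists_linear {K : Subgroup SL} (lab : W ≃+ W)
    (mono : ∀ (s : Equiv.Perm (Fin 6)) (d : Fin 6 → F4ˣ), Equiv.Perm.sign s = 1 → ∏ i, d i = 1 →
      ∃ A ∈ K, ∀ (v : W), lab (A • v) = mon s d (lab v))
    (hq : ∀ x, herm (lab x) (lab x) = 0 ↔ herm x x = 0) :
    ∃ g : W ≃+ W, (∀ x, g (F4.w • x) = F4.w • g x) ∧
      (∀ (s : Equiv.Perm (Fin 6)) (d : Fin 6 → F4ˣ), Equiv.Perm.sign s = 1 → ∏ i, d i = 1 →
      ∃ A ∈ K, ∀ (v : W), g (A • v) = mon s d (g v)) ∧
      ∀ x, herm (g x) (g x) = 0 ↔ herm x x = 0 := by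
  obtain ⟨γ, hγ⟩ := scalar_of_commute (J := fun x => lab (F4.w • lab.symm x))
    (fun x y => by
      show lab (F4.w • lab.symm (x + y)) = lab (F4.w • lab.symm x) + lab (F4.w • lab.symm y)
      rw [map_add, smul_add, map_add])
    (fun s d hs hd x => by
      obtain ⟨A, hA, hAv⟩ := mono s d hs hd
      show lab (F4.w • lab.symm (mon s d x)) = mon s d (lab (F4.w • lab.symm x))
      have h1 : lab.symm (mon s d x) = A • lab.symm x := by
        rw [AddEquiv.symm_apply_eq, hAv, AddEquiv.apply_symm_apply]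
      rw [h1, ← smul_comm A F4.w, hAv])
  have hγ' : ∀ v, lab (F4.w • v) = γ • lab v := by
    intro v
    have := hγ (lab v)
    rwa [AddEquiv.symm_apply_apply] at this
  have h2 : γ * γ = γ + 1 := by
    have h3 : ∀ v : W, F4.w • F4.w • v = F4.w • v + v := by
      intro v
      rw [smul_smul]
      have : (F4.w * F4.w : F4) = F4.w + 1 := rfl
      rw [this, add_smul, one_smul]
    have h4 := congrArg lab (h3 (lab.symm (e 0)))
    rw [map_add, hγ', hγ', AddEquiv.apply_symm_apply, smul_smul] at h4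
    have h5 := congrFun h4 0
    rw [Pi.add_apply, Pi.smul_apply, Pi.smul_apply, e_apply, if_pos rfl, smul_eq_mul, smul_eq_mul, mul_one,
      mul_one] at h5
    exact h5
  have h3 : γ = F4.w ∨ γ = F4.v := by
    revert h2; cases γ <;> decide
  rcases h3 with rfl | rfl
  · exact ⟨lab, hγ', mono, hq⟩
  · let cW : W ≃+ W :=
      { toFun := fun x i => cj (x i)
        invFun := fun x i => cj (x i)
        left_inv := fun x => funext fun i => cj_cj _
        right_inv := fun x => funext fun i => cj_cj _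
        map_add' := fun x y => funext fun i => cj_add _ _ }
    have hc : ∀ (x : W) i, cW x i = cj (x i) := fun _ _ => rfl
    refine ⟨lab.trans cW, fun x => ?_, fun s d hs hd => ?_, fun x => ?_⟩
    · show cW (lab (F4.w • x)) = F4.w • cW (lab x)
      rw [hγ']
      funext i
      rw [hc, Pi.smul_apply, Pi.smul_apply, hc, smul_eq_mul, smul_eq_mul, cj_mul]
      rfl
    · obtain ⟨A, hA, hAv⟩ := mono s (fun i => d i * d i) hs (by
        rw [Finset.prod_mul_distrib, hd, mul_one])
      refine ⟨A, hA, fun v => ?_⟩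
      show cW (lab (A • v)) = mon s d (cW (lab v))
      rw [hAv]
      funext i
      show cj (((d i * d i : F4ˣ) : F4) * lab v (s⁻¹ i)) = (d i : F4) * cj (lab v (s⁻¹ i))
      rw [cj_mul, Units.val_mul, cj_mul]
      have h4 : ∀ a : F4, a ≠ 0 → cj a * cj a = a := by decide
      rw [h4 _ (d i).ne_zero]
    · show herm (cW (lab x)) (cW (lab x)) = 0 ↔ _
      have h4 : herm (cW (lab x)) (cW (lab x)) = cj (herm (lab x) (lab x)) := by
        rw [herm_def, herm_def, cj_sum]
        exact Finset.sum_congr rfl fun i _ => by rw [hc, cj_mul]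
      rw [h4, cj_eq_zero]
      exact hq x

/-- an invertible matrix from a linear bijection -/
theorem exists_mat (g : W ≃+ W) (hs : ∀ (a : F4) x, g (a • x) = a • g x) : ∃ G : GLx, ∀ v, ac G v = g v := by
  let l : W →ₗ[F4] W := { toFun := g, map_add' := map_add g, map_smul' := hs }
  let l' : W →ₗ[F4] W :=
    { toFun := g.symm, map_add' := map_add g.symm
      map_smul' := fun a x => by
        rw [AddEquiv.symm_apply_eq, RingHom.id_apply, hs, AddEquiv.apply_symm_apply] }
  have h1 : l ∘ₗ l' = LinearMap.id := LinearMap.ext fun x => g.apply_symm_apply x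
  have h2 : l' ∘ₗ l = LinearMap.id := LinearMap.ext fun x => g.symm_apply_apply x
  refine ⟨⟨LinearMap.toMatrix' l, LinearMap.toMatrix' l', ?_, ?_⟩, fun v => ?_⟩
  · rw [← LinearMap.toMatrix'_comp, h1, LinearMap.toMatrix'_id]
  · rw [← LinearMap.toMatrix'_comp, h2, LinearMap.toMatrix'_id]
  · show (LinearMap.toMatrix' l).mulVec v = _
    rw [LinearMap.toMatrix'_mulVec]
    rfl

theorem card_W4096 : Nat.card W = 4096 := by
  rw [Nat.card_eq_fintype_card, Fintype.card_fun, show Fintype.card F4 = 4 from rfl, Fintype.card_fin]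
  norm_num

theorem card_of_ext {S : Type*} [Group S] {K : Subgroup SL} {π : ↥K →* S}
    (E : Ext π) (hS : Nat.card S = 3265920) : Nat.card ↥K = 9797760 := by
  have h1 := π.ker.card_mul_index
  rw [Subgroup.index_ker, MonoidHom.range_eq_top.2 E.surj, Subgroup.card_top, hS, E.card] at h1
  omega

/-- **Coordinates.** -/
theorem exists_linFrame {S : Type*} [Group S] (U : UData S) (hcS : Nat.card S = 3265920)
    {K : Subgroup SL} (hK : K ≤ Cfsg.SU 6 F4 2) {π : ↥K →* S} (E : Ext π) :
    ∃ G : GLx, Uni G ∧ LinFrame F4 (cmap G K) := by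
  obtain ⟨n0, hn0, hn1, -, hall⟩ := E.exists_gen
  have I := E.input U hn0 hn1 hall
  have hf : ∀ g : ↥K, (∀ v : W, g • v = v) → g = 1 := by
    intro g hg
    apply Subtype.ext
    apply sl_ext
    intro v
    have := hg v
    rw [show ((1 : ↥K) : SL) = 1 from rfl, one_smul]
    exact this
  obtain ⟨L⟩ := exists_labData (H := ↥K) (V := W) (F := F4) rfl W_add_self hf card_W4096 I
  have hinv : ∀ (g : ↥K) v, qF (g • v) = qF v := by
    intro g v
    show sF (herm ((g : SL) • v) ((g : SL) • v)) = sF (herm v v)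
    have h1 : herm ((g : SL) • v) ((g : SL) • v) = herm v v := hK g.2 v v
    rw [h1]
  have f := form_of_labData L qF bF bF_add_left bF_add_right qF_add bF_nondeg hinv
  have hq : ∀ x, herm (L.lab x) (L.lab x) = 0 ↔ herm x x = 0 := by
    intro x
    have h1 := f.Q_eq_zero rfl (L.lab x)
    rw [AddEquiv.symm_apply_apply, qF_eq_zero] at h1
    exact h1.symm
  obtain ⟨g, hgw, hgm, hgq⟩ := exists_linear (K := K) L.lab (fun s d hs hd => by
    obtain ⟨A, hA⟩ := L.mono s d hs hd
    exact ⟨A, A.2, fun v => funext fun i => hA v i⟩) hq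
  have hgs := smul_of_w (map_zero g) hgw
  obtain ⟨G, hG⟩ := exists_mat g hgs
  have hU : Uni G := fun u v => by
    rw [hG, hG]
    exact herm_of_qF (map_add g) hgs hgq u v
  refine ⟨G, hU, cmap_le hU hK, fun s d hs hd => ?_, ?_⟩
  · obtain ⟨A, hA, hAv⟩ := hgm s d hs hd
    refine ⟨cg G A, ⟨A, hA, rfl⟩, fun v i => ?_⟩
    obtain ⟨w, rfl⟩ : ∃ w, ac G w = v := ⟨ac G⁻¹ v, ac_inv' _ _⟩
    show (cg G A • ac G w) i = _
    rw [cg_smul, hG, hAv, hG]
    rfl
  · rw [card_cmap, card_of_ext E hcS]

/-- **Every `3.U4(3)` in `SU_6(2)` is conjugate to a standard one by a unitary matrix.** -/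
theorem exists_std_conj {S : Type*} [Group S] (U : UData S) (hcS : Nat.card S = 3265920)
    {K : Subgroup SL} (hK : K ≤ Cfsg.SU 6 F4 2) {π : ↥K →* S} (E : Ext π) :
    ∃ G : GLx, Uni G ∧ Std (cmap G K) := by
  obtain ⟨G, hG, hF⟩ := exists_linFrame U hcS hK E
  obtain ⟨D, hD⟩ := exists_std hF
  refine ⟨Dg D * G, (uni_Dg D).mul hG, ?_⟩
  rw [cmap_mul]
  exact hD

end Cfsg.Agent.H832.UThree
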