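import Cfsg.Agent.H832.UThree.Lin

/-!
# The three classes of subgroups `3.U4(3)` of `SU_6(2)` (helper832)

* `main` : for a group `Γ ≃* SU 6 F4 2`, if `H0` is standard with `H0 → S = PSU_4(3)` (kernel of order 3), there are
  exactly three classes of subgroups `K` of `Γ` with `|Z(K)| = 3`, `K / Z(K) ≅ S`.
-/

set_option autoImplicit false

namespace Cfsg.Agent.H832.UThree

open Cfsg Cfsg.Agent.SporRec.GF4 Cfsg.Agent.R08.ModVec Cfsg.Agent.R08.ModMono Cfsg.Agent.R08.Frame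
open Cfsg.Agent.R08.ModOrb Cfsg.Agent.R08.ModIso Cfsg.Agent.R08.ModTau Cfsg.Agent.R08.ModSig
open Cfsg.Agent.R08.ModTriv Cfsg.Agent.R08.FrameAGroup Cfsg.Agent.R08.FrameAData

universe u v

/-! ### extensions -/

section Ext

variable {H : Type u} {S : Type v} [Group H] [Group S]

theorem pr_of_ext (hS : Subgroup.center S = ⊥) {π : H →* S} (E : Ext π) :
    Nat.card ↥(Subgroup.center H) = 3 ∧ Nonempty (H ⧸ Subgroup.center H ≃* S) := by
  have hcen : Subgroup.center H = π.ker := by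
    apply le_antisymm
    · intro z hz
      rw [MonoidHom.mem_ker]
      have h1 : π z ∈ Subgroup.center S := by
        rw [Subgroup.mem_center_iff]
        intro s
        obtain ⟨k, rfl⟩ := E.surj s
        rw [← map_mul, ← map_mul, Subgroup.mem_center_iff.1 hz k]
      rw [hS] at h1
      exact Subgroup.mem_bot.1 h1
    · intro z hz
      rw [Subgroup.mem_center_iff]
      exact fun g => E.central hz g
  refine ⟨by rw [hcen]; exact E.card, ?_⟩
  exact ⟨(QuotientGroup.quotientMulEquivOfEq hcen).trans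
    (QuotientGroup.quotientKerEquivOfSurjective π E.surj)⟩

theorem ext_of_pr (hS : commutator S = ⊤) (hc : Nat.card ↥(Subgroup.center H) = 3)
    (e : H ⧸ Subgroup.center H ≃* S) :
    Ext (e.toMonoidHom.comp (QuotientGroup.mk' (Subgroup.center H))) where
  surj := e.surjective.comp (QuotientGroup.mk'_surjective _)
  card := by
    have : (e.toMonoidHom.comp (QuotientGroup.mk' (Subgroup.center H))).ker = Subgroup.center H := by
      ext x
      rw [MonoidHom.mem_ker]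
      show e (QuotientGroup.mk' (Subgroup.center H) x) = 1 ↔ _
      rw [map_eq_one_iff e e.injective]
      exact QuotientGroup.eq_one_iff x
    rw [this, hc]
  perf := hS

theorem ext_comp {H' : Type*} [Group H'] {π : H →* S} (E : Ext π) (e : H' ≃* H) :
    Ext (π.comp e.toMonoidHom) where
  surj := E.surj.comp e.surjective
  card := by
    rw [← E.card]
    refine Nat.card_congr ⟨fun x => ⟨e x, x.2⟩, fun y => ⟨e.symm y, ?_⟩, fun x => ?_, fun y => ?_⟩
    · rw [MonoidHom.mem_ker]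
      show π (e (e.symm y)) = 1
      rw [e.apply_symm_apply]
      exact y.2
    · exact Subtype.ext (e.symm_apply_apply _)
    · exact Subtype.ext (e.apply_symm_apply _)
  perf := E.perf

theorem index_ne_two {π : H →* S} (E : Ext π) (N : Subgroup H) : N.index ≠ 2 := by
  intro hN
  have hn : N.Normal := Subgroup.normal_of_index_eq_two hN
  have hc : Nat.card (H ⧸ N) = 2 := hN
  have h2 : Fact (Nat.Prime 2) := ⟨Nat.prime_two⟩
  have hcyc : IsCyclic (H ⧸ N) := isCyclic_of_prime_card hc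
  let _ : CommGroup (H ⧸ N) := IsCyclic.commGroup
  have h1 : ∀ g : H, (QuotientGroup.mk' N) g = 1 := by
    apply E.hom_eq_one (QuotientGroup.mk' N)
    intro n hn'
    have h3 : n ^ 3 = 1 := by
      obtain ⟨n0, -, -, h3, hall⟩ := E.exists_gen
      rcases hall n hn' with rfl | rfl | rfl
      · exact one_pow 3
      · exact h3
      · rw [← pow_mul, mul_comm, pow_mul, h3, one_pow]
    have h4 : (QuotientGroup.mk' N n) ^ 2 = 1 := by
      rw [← hc]
      exact pow_card_eq_one'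
    have h5 : (QuotientGroup.mk' N n) ^ 3 = 1 := by rw [← map_pow, h3, map_one]
    rw [pow_succ, h4, one_mul] at h5
    exact h5
  have h6 : N = ⊤ := by
    rw [eq_top_iff]
    intro g _
    exact (QuotientGroup.eq_one_iff g).1 (h1 g)
  rw [h6, Subgroup.index_top] at hN
  omega

end Ext

/-! ### the classes in `SL` -/

/-- an element of `SL` as an invertible matrix -/
def gl (s : SL) : GLx where
  val := s.1
  inv := (s⁻¹ : SL).1
  val_inv := congrArg Subtype.val (mul_inv_cancel s)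
  inv_val := congrArg Subtype.val (inv_mul_cancel s)

theorem ac_gl (s : SL) (v : W) : ac (gl s) v = s • v := rfl

theorem cg_gl (s A : SL) : cg (gl s) A = s * A * s⁻¹ := rfl

theorem uni_gl {s : SL} (hs : s ∈ Cfsg.SU 6 F4 2) : Uni (gl s) := fun u v => hs u v

theorem mem_SU_of_uni {s : SL} (hs : Uni (gl s)) : s ∈ Cfsg.SU 6 F4 2 := fun u v => hs u v

/-- `diag(c, 1, 1, 1, 1, 1)` -/
def Dc (c : F4ˣ) : GLx := Dg ![c, 1, 1, 1, 1, 1]

theorem uni_Dc (c : F4ˣ) : Uni (Dc c) := uni_Dg _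

theorem det_Dc (c : F4ˣ) : ((Dc c : GLx) : Mx).det = c := by
  show (Matrix.diagonal fun i => ((![c, 1, 1, 1, 1, 1] i : F4ˣ) : F4)).det = c
  rw [Matrix.det_diagonal, Fin.prod_univ_six]
  show (c : F4) * 1 * 1 * 1 * 1 * 1 = c
  simp only [mul_one]

theorem Dc_inv (c : F4ˣ) : (Dc c)⁻¹ = Dc c⁻¹ := by
  unfold Dc
  rw [Dg_inv]
  congr 1
  funext i
  fin_cases i <;> rfl

/-- the determinant as a unit -/
noncomputable def dt (G : GLx) : F4ˣ where
  val := (G : Mx).det
  inv := ((G⁻¹ : GLx) : Mx).det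
  val_inv := by rw [← Matrix.det_mul, Units.mul_inv, Matrix.det_one]
  inv_val := by rw [← Matrix.det_mul, Units.inv_mul, Matrix.det_one]

theorem coe_dt (G : GLx) : ((dt G : F4ˣ) : F4) = Matrix.det (G : Mx) := by
  unfold dt
  exact Units.val_mk _ _ _ _

theorem dt_mul (G G' : GLx) : dt (G * G') = dt G * dt G' := by
  apply Units.ext
  rw [coe_dt, Units.val_mul, Units.val_mul, coe_dt, coe_dt, Matrix.det_mul]

theorem dt_inv (G : GLx) : dt G⁻¹ = (dt G)⁻¹ := by
  apply eq_inv_of_mul_eq_one_left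
  rw [← dt_mul, inv_mul_cancel]
  apply Units.ext
  rw [coe_dt, Units.val_one, Units.val_one, Matrix.det_one]

theorem dt_Dc (c : F4ˣ) : dt (Dc c) = c := by
  apply Units.ext
  rw [coe_dt, det_Dc]

theorem dt_gl (s : SL) : dt (gl s) = 1 := by
  apply Units.ext
  rw [coe_dt, Units.val_one]
  exact s.2

theorem exists_class {S : Type*} [Group S] (U : UData S) (hcS : Nat.card S = 3265920)
    {H0 : Subgroup SL} (h0 : Std H0) {K : Subgroup SL} (hK : K ≤ Cfsg.SU 6 F4 2) {π : ↥K →* S}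
    (E : Ext π) : ∃ (c : F4ˣ) (s : SL), s ∈ Cfsg.SU 6 F4 2 ∧ cmap (gl s) K = cmap (Dc c) H0 := by
  obtain ⟨G, hG, hStd⟩ := exists_std_conj U hcS hK E
  have hno : NoTwo (cmap G K) := by
    intro N
    exact index_ne_two (ext_comp E (K.equivMapOfInjective (cg G).toMonoidHom (cg G).injective).symm) N
  have heq : cmap G K = H0 := std_unique h0 hStd hno
  have hdet : (((Dc (dt G))⁻¹ * G : GLx) : Mx).det = 1 := by
    rw [← coe_dt, dt_mul, dt_inv, dt_Dc, inv_mul_cancel, Units.val_one]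
  have hs : gl ⟨((Dc (dt G))⁻¹ * G : GLx), hdet⟩ = (Dc (dt G))⁻¹ * G := by
    apply Units.ext
    show (((Dc (dt G))⁻¹ * G : GLx) : Mx) = _
    exact rfl
  refine ⟨(dt G)⁻¹, ⟨((Dc (dt G))⁻¹ * G : GLx), hdet⟩, ?_, ?_⟩
  · apply mem_SU_of_uni
    rw [hs]
    exact (uni_Dg _).inv.mul hG
  · rw [hs, cmap_mul, heq, Dc_inv]

theorem nonconj {H0 : Subgroup SL} (h0 : Std H0) {c c' : F4ˣ} {s : SL} (hs : s ∈ Cfsg.SU 6 F4 2)
    (h : cmap (gl s) (cmap (Dc c) H0) = cmap (Dc c') H0) : c = c' := by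
  have h1 : cmap ((Dc c')⁻¹ * (gl s * Dc c)) H0 = H0 := by
    rw [cmap_mul, cmap_mul, h, ← cmap_mul, inv_mul_cancel, cmap_one]
  have h2 := det_of_normalize h0 ((uni_Dc c').inv.mul ((uni_gl hs).mul (uni_Dc c))) h1
  have h3 : dt ((Dc c')⁻¹ * (gl s * Dc c)) = 1 := by
    apply Units.ext
    rw [coe_dt, h2, Units.val_one]
  rw [dt_mul, dt_mul, dt_inv, dt_Dc, dt_Dc, dt_gl, one_mul, inv_mul_eq_one] at h3
  exact h3.symm

theorem units_cases (c : F4ˣ) : c = 1 ∨ c = uw ∨ c = uw * uw := by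
  rcases eq_cases (c : F4) with h | h | h | h
  · exact absurd h c.ne_zero
  · exact Or.inl (Units.ext h)
  · exact Or.inr (Or.inl (Units.ext h))
  · exact Or.inr (Or.inr (Units.ext h))

theorem uw_ne_one : uw ≠ 1 := fun h => by
  have := congrArg Units.val h
  exact absurd this (by decide)

/-! ### the classes in `SU` -/

/-- `SU_6(2)` -/
abbrev SUx : Type := ↥(Cfsg.SU 6 F4 2)

/-- the property of the subgroups -/
def Pr (S : Type v) [Group S] {Γ : Type u} [Group Γ] (K : Subgroup Γ) : Prop :=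
  Nat.card ↥(Subgroup.center ↥K) = 3 ∧ Nonempty (↥K ⧸ Subgroup.center ↥K ≃* S)

theorem conj_map (g : SUx) (K : Subgroup SUx) :
    (K.map (MulAut.conj g).toMonoidHom).map (Cfsg.SU 6 F4 2).subtype =
      cmap (gl (g : SL)) (K.map (Cfsg.SU 6 F4 2).subtype) := by
  ext A
  constructor
  · rintro ⟨_, ⟨x, hx, rfl⟩, rfl⟩
    exact ⟨(x : SL), ⟨x, hx, rfl⟩, rfl⟩
  · rintro ⟨_, ⟨x, hx, rfl⟩, rfl⟩
    exact ⟨g * x * g⁻¹, ⟨x, hx, rfl⟩, rfl⟩

theorem map_inj {K K' : Subgroup SUx}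
    (h : K.map (Cfsg.SU 6 F4 2).subtype = K'.map (Cfsg.SU 6 F4 2).subtype) : K = K' :=
  Subgroup.map_injective (Cfsg.SU 6 F4 2).subtype_injective h

/-- the subgroup of `SU_6(2)` -/
def Kc (H0 : Subgroup SL) (c : F4ˣ) : Subgroup SUx := (cmap (Dc c) H0).subgroupOf (Cfsg.SU 6 F4 2)

theorem Kc_map {H0 : Subgroup SL} (h0 : Std H0) (c : F4ˣ) :
    (Kc H0 c).map (Cfsg.SU 6 F4 2).subtype = cmap (Dc c) H0 := by
  unfold Kc
  rw [Subgroup.subgroupOf_map_subtype, inf_eq_left]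
  exact cmap_le (uni_Dg _) h0.fr.le

variable {S : Type v} [Group S]

/-- **The three classes.** -/
theorem main_SU (U : UData S) (hcS : Nat.card S = 3265920) (hperf : commutator S = ⊤)
    (hcen : Subgroup.center S = ⊥) {H0 : Subgroup SL} (h0 : Std H0) {π0 : ↥H0 →* S} (E0 : Ext π0) :
    ∃ K₁ K₂ K₃ : Subgroup SUx, (∀ K ∈ [K₁, K₂, K₃], Pr S K) ∧
      (¬ ∃ g : SUx, K₁.map (MulAut.conj g).toMonoidHom = K₂) ∧
      (¬ ∃ g : SUx, K₁.map (MulAut.conj g).toMonoidHom = K₃) ∧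
      (¬ ∃ g : SUx, K₂.map (MulAut.conj g).toMonoidHom = K₃) ∧
      ∀ K : Subgroup SUx, Pr S K → ∃ g : SUx, K.map (MulAut.conj g).toMonoidHom = K₁ ∨
        K.map (MulAut.conj g).toMonoidHom = K₂ ∨ K.map (MulAut.conj g).toMonoidHom = K₃ := by
  have hpr : ∀ c, Pr S (Kc H0 c) := by
    intro c
    have e1 : ↥(Kc H0 c) ≃* ↥(cmap (Dc c) H0) := Subgroup.subgroupOfEquivOfLe
      (cmap_le (uni_Dg _) h0.fr.le)
    have e2 : ↥H0 ≃* ↥(cmap (Dc c) H0) := H0.equivMapOfInjective (cg (Dc c)).toMonoidHom (cg (Dc c)).injective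
    exact pr_of_ext hcen (ext_comp E0 (e1.trans e2.symm))
  have hnc : ∀ c c' : F4ˣ, c ≠ c' → ¬ ∃ g : SUx, (Kc H0 c).map (MulAut.conj g).toMonoidHom = Kc H0 c' := by
    rintro c c' hne ⟨g, hg⟩
    apply hne
    apply nonconj h0 g.2
    rw [← Kc_map h0 c, ← conj_map, hg, Kc_map h0]
  have hall : ∀ K : Subgroup SUx, Pr S K → ∃ (c : F4ˣ) (g : SUx),
      K.map (MulAut.conj g).toMonoidHom = Kc H0 c := by
    rintro K ⟨hc, ⟨e⟩⟩
    have E := ext_of_pr hperf hc e
    have e1 : ↥K ≃* ↥(K.map (Cfsg.SU 6 F4 2).subtype) :=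
      K.equivMapOfInjective _ (Cfsg.SU 6 F4 2).subtype_injective
    obtain ⟨c, s, hs, h⟩ := exists_class U hcS h0 (K := K.map (Cfsg.SU 6 F4 2).subtype)
      (Subgroup.map_subtype_le _) (ext_comp E e1.symm)
    refine ⟨c, ⟨s, hs⟩, map_inj ?_⟩
    rw [conj_map, Kc_map h0]
    exact h
  have n1 : (1 : F4ˣ) ≠ uw := uw_ne_one.symm
  have n2 : (1 : F4ˣ) ≠ uw * uw := fun h => by
    have := congrArg Units.val h
    exact absurd this (by decide)
  have n3 : uw ≠ uw * uw := fun h => by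
    have := congrArg Units.val h
    exact absurd this (by decide)
  refine ⟨Kc H0 1, Kc H0 uw, Kc H0 (uw * uw), ?_, hnc _ _ n1, hnc _ _ n2, hnc _ _ n3, ?_⟩
  · intro K hK
    simp only [List.mem_cons, List.not_mem_nil, or_false] at hK
    rcases hK with rfl | rfl | rfl
    · exact hpr _
    · exact hpr _
    · exact hpr _
  · intro K hK
    obtain ⟨c, g, hg⟩ := hall K hK
    rcases units_cases c with rfl | rfl | rfl
    · exact ⟨g, Or.inl hg⟩
    · exact ⟨g, Or.inr (Or.inl hg)⟩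
    · exact ⟨g, Or.inr (Or.inr hg)⟩

/-! ### transport -/

/-- the statement for a group `Γ` -/
def Three (S : Type v) [Group S] (Γ : Type u) [Group Γ] : Prop :=
  ∃ K₁ K₂ K₃ : Subgroup Γ, (∀ K ∈ [K₁, K₂, K₃], Pr S K) ∧
      (¬ ∃ g : Γ, K₁.map (MulAut.conj g).toMonoidHom = K₂) ∧
      (¬ ∃ g : Γ, K₁.map (MulAut.conj g).toMonoidHom = K₃) ∧
      (¬ ∃ g : Γ, K₂.map (MulAut.conj g).toMonoidHom = K₃) ∧
      ∀ K : Subgroup Γ, Pr S K → ∃ g : Γ, K.map (MulAut.conj g).toMonoidHom = K₁ ∨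
        K.map (MulAut.conj g).toMonoidHom = K₂ ∨ K.map (MulAut.conj g).toMonoidHom = K₃

theorem Pr.congr_group {A : Type*} {B : Type*} [Group A] [Group B] (e : A ≃* B)
    (h : Nat.card ↥(Subgroup.center A) = 3 ∧ Nonempty (A ⧸ Subgroup.center A ≃* S)) :
    Nat.card ↥(Subgroup.center B) = 3 ∧ Nonempty (B ⧸ Subgroup.center B ≃* S) := by
  have hmap : (Subgroup.center A).map e.toMonoidHom = Subgroup.center B := by
    ext b
    constructor
    · rintro ⟨a, ha, rfl⟩
      rw [Subgroup.mem_center_iff]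
      intro b
      obtain ⟨a', rfl⟩ := e.surjective b
      show e a' * e a = e a * e a'
      rw [← map_mul, ← map_mul, Subgroup.mem_center_iff.1 ha a']
    · intro hb
      refine ⟨e.symm b, ?_, e.apply_symm_apply b⟩
      rw [SetLike.mem_coe, Subgroup.mem_center_iff]
      intro a
      apply e.injective
      rw [map_mul, map_mul, e.apply_symm_apply, Subgroup.mem_center_iff.1 hb]
  obtain ⟨h1, ⟨f⟩⟩ := h
  refine ⟨?_, ⟨(QuotientGroup.congr _ _ e hmap).symm.trans f⟩⟩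
  rw [← h1, ← hmap]
  exact (Nat.card_congr ((Subgroup.center A).equivMapOfInjective e.toMonoidHom e.injective).toEquiv).symm

theorem Pr.map {Γ : Type*} {Γ' : Type*} [Group Γ] [Group Γ'] (e : Γ ≃* Γ') {K : Subgroup Γ} (h : Pr S K) :
    Pr S (K.map e.toMonoidHom) :=
  Pr.congr_group (K.equivMapOfInjective e.toMonoidHom e.injective) h

theorem conj_map_equiv {Γ : Type*} {Γ' : Type*} [Group Γ] [Group Γ'] (e : Γ ≃* Γ') (g : Γ) (K : Subgroup Γ) :
    (K.map (MulAut.conj g).toMonoidHom).map e.toMonoidHom =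
      (K.map e.toMonoidHom).map (MulAut.conj (e g)).toMonoidHom := by
  rw [Subgroup.map_map, Subgroup.map_map]
  congr 1
  ext x
  show e (g * x * g⁻¹) = e g * e x * (e g)⁻¹
  rw [map_mul, map_mul, map_inv]

theorem Three.of_equiv {Γ : Type*} {Γ' : Type*} [Group Γ] [Group Γ'] (e : Γ ≃* Γ') (h : Three S Γ) :
    Three S Γ' := by
  obtain ⟨K₁, K₂, K₃, h1, h12, h13, h23, h2⟩ := h
  have hinj := Subgroup.map_injective (f := e.toMonoidHom) e.injective
  have key : ∀ K K' : Subgroup Γ, (¬ ∃ g : Γ, K.map (MulAut.conj g).toMonoidHom = K') →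
      ¬ ∃ g : Γ', (K.map e.toMonoidHom).map (MulAut.conj g).toMonoidHom = K'.map e.toMonoidHom := by
    rintro K K' hn ⟨g, hg⟩
    obtain ⟨g, rfl⟩ := e.surjective g
    rw [← conj_map_equiv] at hg
    exact hn ⟨g, hinj hg⟩
  refine ⟨K₁.map e.toMonoidHom, K₂.map e.toMonoidHom, K₃.map e.toMonoidHom, ?_, key _ _ h12,
    key _ _ h13, key _ _ h23, ?_⟩
  · intro K hK
    simp only [List.mem_cons, List.not_mem_nil, or_false] at hK
    rcases hK with rfl | rfl | rfl
    · exact (h1 K₁ (by simp)).map e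
    · exact (h1 K₂ (by simp)).map e
    · exact (h1 K₃ (by simp)).map e
  · intro K hK
    have hK' : Pr S (K.map e.symm.toMonoidHom) := hK.map e.symm
    have hKK : (K.map e.symm.toMonoidHom).map e.toMonoidHom = K := by
      rw [Subgroup.map_map]
      have : e.toMonoidHom.comp e.symm.toMonoidHom = MonoidHom.id _ := by
        ext x
        exact e.apply_symm_apply x
      rw [this, Subgroup.map_id]
    obtain ⟨g, hg⟩ := h2 _ hK'
    refine ⟨e g, ?_⟩
    rw [← hKK, ← conj_map_equiv]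
    rcases hg with hg | hg | hg
    · exact Or.inl (by rw [hg])
    · exact Or.inr (Or.inl (by rw [hg]))
    · exact Or.inr (Or.inr (by rw [hg]))

theorem Three.congr_S {S' : Type*} [Group S'] (e : S ≃* S') {Γ : Type*} [Group Γ] (h : Three S Γ) :
    Three S' Γ := by
  have key : ∀ K : Subgroup Γ, Pr S K ↔ Pr S' K := fun K =>
    ⟨fun ⟨h1, ⟨f⟩⟩ => ⟨h1, ⟨f.trans e⟩⟩, fun ⟨h1, ⟨f⟩⟩ => ⟨h1, ⟨f.trans e.symm⟩⟩⟩
  obtain ⟨K₁, K₂, K₃, h1, h12, h13, h23, h2⟩ := h
  exact ⟨K₁, K₂, K₃, fun K hK => (key K).1 (h1 K hK), h12, h13, h23, fun K hK => h2 K ((key K).2 hK)⟩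

end Cfsg.Agent.H832.UThree
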